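import Groth.Agent.HopfIneq.Val
import Groth.Agent.CurveRR.Zero
import Groth.Agent.CohFinite.Proper
import Groth.Agent.DerPerf.Tensor
import Groth.Agent.LocFree.Props
import Mathlib

/-!
Global sections of vector bundles on an integral scheme as vectors over the function field.
-/

set_option autoImplicit false
set_option backward.isDefEq.respectTransparency false
set_option linter.style.haveILetI false

universe u

open CategoryTheory AlgebraicGeometry TopologicalSpace
open Groth.Agent.QC (res resO res_res res_smul resO_resO section_eq_of_locally)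
open Groth.Agent.CurveRR (cst secH0)
open TMul (IsFrame tm)

noncomputable section

namespace Groth.Agent.HopfIneq

variable {k : Type u} [Field k] {X : Scheme.{u}} [X.Over (Spec (CommRingCat.of k))] [IsIntegral X]

attribute [local instance] Groth.Agent.CurveRR.secMod

/-- Constants in the function field. -/
def cstK (k : Type u) [Field k] (X : Scheme.{u}) [X.Over (Spec (CommRingCat.of k))] [IsIntegral X] :
    k →+* X.functionField :=
  haveI : Nonempty (⊤ : X.Opens) := ⟨⟨genericPoint X, trivial⟩⟩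
  (X.germToFunctionField ⊤).hom.comp (Coh.toGlobal (X ↘ Spec (CommRingCat.of k)))

theorem germ_cst (W : X.Opens) [Nonempty W] (a : k) : X.germToFunctionField W (cst k X W a) = cstK k X a :=
  TopCat.Presheaf.germ_res_apply X.presheaf (homOfLE (le_top : W ≤ ⊤)) _ _ _

/-- A nonvanishing open detects sections of a vector bundle. -/
theorem res_injective {E : X.Modules} (hE : FlatMod.IsFinLocFree E) {W V : X.Opens} [Nonempty W] (h : W ≤ V) :
    Function.Injective (res E h) := by
  refine (injective_iff_map_eq_zero _).2 fun s hs => section_eq_of_locally fun x hx => ?_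
  obtain ⟨U, n, e, hxU, he⟩ := TMul.exists_isFrame hE x
  refine ⟨U ⊓ V, inf_le_right, ⟨hxU, hx⟩, ?_⟩
  obtain ⟨c, hc⟩ := he.comb_surjective (inf_le_left : U ⊓ V ≤ U) (res E inf_le_right s)
  haveI : Nonempty (U ⊓ V : X.Opens) := ⟨⟨x, hxU, hx⟩⟩
  haveI : Nonempty (U ⊓ V ⊓ W : X.Opens) := ⟨⟨genericPoint X,
    ⟨((genericPoint_spec X).mem_open_set_iff (U ⊓ V).2).2 ⟨x, trivial, ⟨hxU, hx⟩⟩,
      ((genericPoint_spec X).mem_open_set_iff W.2).2 ⟨_, trivial, (Classical.arbitrary W).2⟩⟩⟩⟩
  have hz : res E ((inf_le_left : U ⊓ V ⊓ W ≤ U ⊓ V).trans inf_le_right) s = 0 := by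
    have h2 := congrArg (res E (inf_le_right : U ⊓ V ⊓ W ≤ W)) hs
    rw [res_res, map_zero] at h2
    exact h2
  have h0 : (fun i => resO X (inf_le_left : U ⊓ V ⊓ W ≤ U ⊓ V) (c i)) = 0 := by
    refine he.comb_injective ((inf_le_left : U ⊓ V ⊓ W ≤ U ⊓ V).trans inf_le_left) ?_
    have := congrArg (res E (inf_le_left : U ⊓ V ⊓ W ≤ U ⊓ V)) hc
    simp only [map_sum, res_smul, res_res] at this
    rw [hz] at this
    simpa using this
  have hc0 : c = 0 := funext fun i => map_injective_of_isIntegral X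
    (homOfLE (inf_le_left : U ⊓ V ⊓ W ≤ U ⊓ V)) ((congrFun h0 i).trans (map_zero _).symm)
  rw [← hc, hc0]
  simp

/-- Coordinates of global sections in a frame, in the function field. -/
theorem exists_coord {E : X.Modules} (hE : FlatMod.IsFinLocFree E) {U : X.Opens} {n : ℕ}
    {e : Fin n → Γ(E, U)} (he : IsFrame e) {W : X.Opens} [Nonempty W] (hW : W ≤ U) :
    letI := (cstK k X).toAlgebra
    ∃ φ : Γ(E, ⊤) →ₗ[k] (Fin n → X.functionField), Function.Injective φ ∧
      ∀ s i, φ s i = X.germToFunctionField W ((he.equiv hW).symm (res E le_top s) i) := by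
  letI := (cstK k X).toAlgebra
  let φ : Γ(E, ⊤) →ₗ[k] (Fin n → X.functionField) :=
    { toFun := fun s i => X.germToFunctionField W ((he.equiv hW).symm (res E le_top s) i)
      map_add' := fun s t => funext fun i => by simp [map_add]
      map_smul' := fun a s => funext fun i => by
        have h1 : res E (le_top : W ≤ ⊤) (a • s) = cst k X W a • res E le_top s :=
          (CurveRR.resL E (k := k) (le_top : W ≤ ⊤)).map_smul a s
        show X.germToFunctionField W ((he.equiv hW).symm (res E le_top (a • s)) i) =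
          cstK k X a * X.germToFunctionField W ((he.equiv hW).symm (res E le_top s) i)
        rw [h1, map_smul, Pi.smul_apply, smul_eq_mul, map_mul, germ_cst] }
  refine ⟨φ, fun s t h => res_injective hE (le_top : W ≤ ⊤) ((he.equiv hW).symm.injective (funext fun i => ?_)),
    fun _ _ => rfl⟩
  exact germ_injective_of_isIntegral X _ _ (congrFun h i)

theorem finrank_H0_add_le [IsAlgClosed k] [IsProper (X ↘ Spec (CommRingCat.of k))] {E₁ E₂ : X.Modules}
    (h₁ : FlatMod.IsFinLocFree E₁) (h₂ : FlatMod.IsFinLocFree E₂)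
    [Nontrivial (Coh.HH X E₁ 0)] [Nontrivial (Coh.HH X E₂ 0)] :
    Module.finrank k (Coh.HH X E₁ 0) + Module.finrank k (Coh.HH X E₂ 0) ≤
      Module.finrank k (Coh.HH X (CohB1.tensorMod E₁ E₂) 0) + 1 := by
  classical
  letI := (cstK k X).toAlgebra
  have h₁₂ : FlatMod.IsFinLocFree (CohB1.tensorMod E₁ E₂) := DerPerf.isFinLocFree_tensor h₁ h₂
  have hfin : ∀ {F : X.Modules}, FlatMod.IsFinLocFree F → FiniteDimensional k Γ(F, ⊤) := fun {F} hF => by
    haveI := CohFinite.finite_proper (A := k) X F ⟨LocFree.isQCoh_of_isFinLocFree hF, LocFree.isFT_of_isFinLocFree hF⟩ 0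
    exact Module.Finite.equiv (secH0 (k := k) F).symm
  haveI := hfin h₁; haveI := hfin h₂; haveI := hfin h₁₂
  obtain ⟨U₁, m, e, hη₁, he⟩ := TMul.exists_isFrame h₁ (genericPoint X)
  obtain ⟨U₂, n, f, hη₂, hf⟩ := TMul.exists_isFrame h₂ (genericPoint X)
  haveI : Nonempty (U₁ ⊓ U₂ : X.Opens) := ⟨⟨genericPoint X, hη₁, hη₂⟩⟩
  obtain ⟨φ₁, hφ₁, hφ₁'⟩ := exists_coord (k := k) h₁ he (inf_le_left : U₁ ⊓ U₂ ≤ U₁)
  obtain ⟨φ₂, hφ₂, hφ₂'⟩ := exists_coord (k := k) h₂ hf (inf_le_right : U₁ ⊓ U₂ ≤ U₂)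
  let W := U₁ ⊓ U₂
  let T : (Fin m → Γ(E₂, W)) ≃ₗ[Γ(X, W)] Γ(CohB1.tensorMod E₁ E₂, W) := LinearEquiv.ofBijective
    { toFun := fun t => ∑ i, tm (res E₁ (inf_le_left : W ≤ U₁) (e i)) (t i)
      map_add' := fun a b => by simp [TMul.add_tm, Finset.sum_add_distrib]
      map_smul' := fun r a => by simp [TMul.tm_smul, Finset.smul_sum] }
    (he.tm_bijective W inf_le_left)
  let ψ : Γ(CohB1.tensorMod E₁ E₂, ⊤) →ₗ[k] (Fin m ×ₗ Fin n → X.functionField) :=
    { toFun := fun s p => X.germToFunctionField W ((hf.equiv (inf_le_right : W ≤ U₂)).symm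
        (T.symm (res _ le_top s) (ofLex p).1) (ofLex p).2)
      map_add' := fun s t => funext fun p => by simp [map_add]
      map_smul' := fun a s => funext fun p => by
        have h1 : res (CohB1.tensorMod E₁ E₂) (le_top : W ≤ ⊤) (a • s) = cst k X W a • res _ le_top s :=
          (CurveRR.resL (CohB1.tensorMod E₁ E₂) (k := k) (le_top : W ≤ ⊤)).map_smul a s
        show X.germToFunctionField W _ = cstK k X a * X.germToFunctionField W _
        rw [h1, map_smul, Pi.smul_apply, map_smul, Pi.smul_apply, smul_eq_mul, map_mul, germ_cst] }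
  have key : ∀ s t, ψ (tm s t) = fun p => φ₁ s (ofLex p).1 * φ₂ t (ofLex p).2 := fun s t => funext fun p => by
    have hT : T.symm (res _ le_top (tm s t)) =
        fun i => (he.equiv (inf_le_left : W ≤ U₁)).symm (res E₁ (le_top : W ≤ ⊤) s) i • res E₂ (le_top : W ≤ ⊤) t := by
      refine T.symm_apply_eq.2 ?_
      show res _ _ (tm s t) = ∑ i, tm (res E₁ (inf_le_left : W ≤ U₁) (e i)) (_ • res E₂ le_top t)
      rw [TMul.res_tm]
      conv_lhs => rw [← (he.equiv (inf_le_left : W ≤ U₁)).apply_symm_apply (res E₁ (le_top : W ≤ ⊤) s)]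
      show tm (∑ i, _ • res E₁ _ (e i)) _ = _
      rw [← TMul.tt_tmul, TensorProduct.sum_tmul, map_sum]
      exact Finset.sum_congr rfl fun i _ => by rw [TMul.tt_tmul, TMul.smul_tm, TMul.tm_smul]
    show X.germToFunctionField W _ = _
    rw [hT, map_smul, Pi.smul_apply, smul_eq_mul, map_mul, hφ₁', hφ₂']
  obtain ⟨V, hV, hres⟩ := exists_residue_rational k X.functionField
  have hk : ∀ c : k, c ≠ 0 → V.valuation (algebraMap k X.functionField c) = 1 := fun c hc => by
    refine le_antisymm ((V.valuation_le_one_iff _).2 (hV c)) ?_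
    have := (V.valuation_le_one_iff _).2 (hV c⁻¹)
    rw [map_inv₀, map_inv₀] at this
    exact (inv_le_one₀ ((Valuation.pos_iff _).2 (by simpa using hc))).1 this
  have hne : ∀ {E : X.Modules} {l : ℕ} (φ : Γ(E, ⊤) →ₗ[k] (Fin l → X.functionField)), Function.Injective φ →
      Nontrivial (Coh.HH X E 0) → LinearMap.range φ ≠ ⊥ := fun {E} {l} φ hφ hE h => by
    haveI : Nontrivial Γ(E, ⊤) := (secH0 (k := k) E).toEquiv.nontrivial
    obtain ⟨s, hs⟩ := exists_ne (0 : Γ(E, ⊤))
    exact hs (hφ ((LinearMap.congr_fun (LinearMap.range_eq_bot.1 h) s).trans (map_zero φ).symm))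
  have := finrank_add_le V.valuation hk (fun x hx => hres x ((V.valuation_le_one_iff x).1 hx))
    (LinearMap.range φ₁) (LinearMap.range φ₂) (LinearMap.range ψ) (by
      rintro a ⟨s, rfl⟩ b ⟨t, rfl⟩
      exact ⟨tm s t, key s t⟩) (hne φ₁ hφ₁ inferInstance) (hne φ₂ hφ₂ inferInstance)
  rw [LinearMap.finrank_range_of_inj hφ₁, LinearMap.finrank_range_of_inj hφ₂] at this
  have hle := LinearMap.finrank_range_le ψ
  rw [(secH0 (k := k) E₁).finrank_eq, (secH0 (k := k) E₂).finrank_eq] at this
  rw [(secH0 (k := k) (CohB1.tensorMod E₁ E₂)).finrank_eq] at hle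
  omega

end Groth.Agent.HopfIneq
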