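import Mathlib

/-!
Valuations with residue field `k` on an extension of an algebraically closed field, and the inequality
`dim (AB) + 1 ≥ dim A + dim B` for spaces of vectors.
-/

set_option autoImplicit false

universe u

open Polynomial

namespace Groth.Agent.HopfIneq

variable (k : Type u) [Field k] (K : Type u) [Field K] [Algebra k K]

/-- A valuation subring over `k` with residue field `k`. -/
theorem exists_residue_rational [IsAlgClosed k] : ∃ V : ValuationSubring K, (∀ c, algebraMap k K c ∈ V) ∧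
    ∀ x ∈ V, ∃ c, V.valuation (x - algebraMap k K c) < 1 := by
  let P : Set (Set K) := {s | ∃ V : ValuationSubring K, (V : Set K) = s ∧ ∀ c, algebraMap k K c ∈ V}
  obtain ⟨s, -, ⟨⟨V, rfl, hk⟩, hmin⟩⟩ := zorn_superset_nonempty P (fun C hC hchain hne => by
    obtain ⟨s₀, hs₀⟩ := hne
    let R : Subring K :=
      { carrier := ⋂₀ C
        mul_mem' := fun ha hb s hs => by
          obtain ⟨V, rfl, -⟩ := hC hs; exact mul_mem (ha _ hs) (hb _ hs)
        one_mem' := fun s hs => by obtain ⟨V, rfl, -⟩ := hC hs; exact one_mem V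
        add_mem' := fun ha hb s hs => by
          obtain ⟨V, rfl, -⟩ := hC hs; exact add_mem (ha _ hs) (hb _ hs)
        zero_mem' := fun s hs => by obtain ⟨V, rfl, -⟩ := hC hs; exact zero_mem V
        neg_mem' := fun ha s hs => by obtain ⟨V, rfl, -⟩ := hC hs; exact neg_mem (ha _ hs) }
    refine ⟨⋂₀ C, ⟨⟨R, fun x => ?_⟩, rfl, fun c s hs => ?_⟩, fun s hs => Set.sInter_subset_of_mem hs⟩
    · by_cases hx : x ∈ R
      · exact Or.inl hx
      · right
        obtain ⟨s₁, hs₁, hxs₁⟩ : ∃ s ∈ C, x ∉ s := by simpa [R, Set.mem_sInter] using hx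
        intro s hs
        obtain ⟨V, rfl, -⟩ := hC hs
        obtain ⟨V₁, rfl, -⟩ := hC hs₁
        rcases hchain.total hs hs₁ with h | h
        · exact (V.mem_or_inv_mem x).resolve_left fun hxV => hxs₁ (h hxV)
        · exact h ((V₁.mem_or_inv_mem x).resolve_left hxs₁)
    · obtain ⟨V, rfl, hk⟩ := hC hs
      exact hk c) _ ⟨⊤, rfl, fun _ => trivial⟩
  refine ⟨V, hk, fun x hx => ?_⟩
  by_contra hno
  push_neg at hno
  let v := V.valuation
  have hle : ∀ y ∈ V, v y ≤ 1 := fun y hy => (V.valuation_le_one_iff y).2 hy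
  have hC : ∀ p : k[X], v (aeval x p) ≤ 1 := fun p => hle _ <| by
    induction p using Polynomial.induction_on' with
    | add p q hp hq => rw [map_add]; exact add_mem hp hq
    | monomial n a => rw [aeval_monomial]; exact mul_mem (hk a) (pow_mem hx n)
  have hunit : ∀ p : k[X], p ≠ 0 → v (aeval x p) = 1 := fun p hp => by
    refine le_antisymm (hC p) ?_
    rw [Polynomial.Splits.eq_prod_roots (IsAlgClosed.splits p), map_mul, map_mul, aeval_C, map_multiset_prod,
      map_multiset_prod, Multiset.map_map, Multiset.map_map]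
    have hc : v (algebraMap k K p.leadingCoeff) = 1 := by
      refine le_antisymm (hle _ (hk _)) ?_
      by_contra hlt
      have h2 : v (algebraMap k K p.leadingCoeff) * v (algebraMap k K p.leadingCoeff⁻¹) < 1 :=
        lt_of_le_of_lt (mul_le_of_le_one_right' (hle _ (hk _))) (not_le.1 hlt)
      rw [← map_mul, ← map_mul, mul_inv_cancel₀ (leadingCoeff_ne_zero.2 hp), map_one, map_one] at h2
      exact lt_irrefl _ h2
    rw [hc, one_mul, Multiset.prod_eq_one]
    intro b hb
    obtain ⟨r, -, rfl⟩ := Multiset.mem_map.1 hb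
    have hr : (aeval x) (X - C r) = x - algebraMap k K r := by simp
    show v (aeval x (X - C r)) = 1
    rw [hr]
    exact le_antisymm (hle _ (sub_mem hx (hk r))) (hno r)
  let S : Subring K :=
    { carrier := {y | ∃ p : k[X], v (y - aeval x p) < 1}
      mul_mem' := by
        rintro a b ⟨p, hp⟩ ⟨q, hq⟩
        refine ⟨p * q, ?_⟩
        have ha : v a ≤ 1 := by
          rw [show a = (a - aeval x p) + aeval x p by ring]
          exact v.map_add_le hp.le (hC p)
        rw [show a * b - aeval x (p * q) = a * (b - aeval x q) + (a - aeval x p) * aeval x q by rw [map_mul]; ring]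
        refine v.map_add_lt ?_ ?_
        · rw [map_mul]; exact lt_of_le_of_lt (mul_le_of_le_one_left' ha) hq
        · rw [map_mul]; exact lt_of_le_of_lt (mul_le_of_le_one_right' (hC q)) hp
      one_mem' := ⟨1, by simp⟩
      add_mem' := by
        rintro a b ⟨p, hp⟩ ⟨q, hq⟩
        exact ⟨p + q, by rw [map_add, show a + b - (aeval x p + aeval x q) = (a - aeval x p) + (b - aeval x q) by ring]
                         exact v.map_add_lt hp hq⟩
      zero_mem' := ⟨0, by simp⟩
      neg_mem' := by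
        rintro a ⟨p, hp⟩
        exact ⟨-p, by rw [map_neg, show -a - -aeval x p = -(a - aeval x p) by ring, v.map_neg]; exact hp⟩ }
  let I : Ideal S :=
    { carrier := {y | ∃ p : k[X], p.eval 0 = 0 ∧ v ((y : K) - aeval x p) < 1}
      zero_mem' := ⟨0, by simp, by simp⟩
      add_mem' := by
        rintro a b ⟨p, hp0, hp⟩ ⟨q, hq0, hq⟩
        exact ⟨p + q, by simp [hp0, hq0],
          by rw [Subring.coe_add, map_add, show (a : K) + b - (aeval x p + aeval x q) =
              ((a : K) - aeval x p) + ((b : K) - aeval x q) by ring]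
             exact v.map_add_lt hp hq⟩
      smul_mem' := by
        rintro ⟨a, p, hp⟩ b ⟨q, hq0, hq⟩
        refine ⟨p * q, by simp [hq0], ?_⟩
        have ha : v a ≤ 1 := by
          rw [show a = (a - aeval x p) + aeval x p by ring]
          exact v.map_add_le hp.le (hC p)
        rw [smul_eq_mul, Subring.coe_mul, show a * (b : K) - aeval x (p * q) =
          a * ((b : K) - aeval x q) + (a - aeval x p) * aeval x q by rw [map_mul]; ring]
        refine v.map_add_lt ?_ ?_
        · rw [map_mul]; exact lt_of_le_of_lt (mul_le_of_le_one_left' ha) hq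
        · rw [map_mul]; exact lt_of_le_of_lt (mul_le_of_le_one_right' (hC q)) hp }
  have hI : I ≠ ⊤ := fun h => by
    obtain ⟨p, hp0, hp⟩ := (Ideal.eq_top_iff_one I).1 h
    have h1 := hunit (1 - p) (fun h0 => by simpa [hp0] using congrArg (eval 0) h0)
    rw [map_sub, map_one] at h1
    exact (lt_irrefl (1 : V.ValueGroup)) (by simpa [h1] using hp)
  obtain ⟨B, hSB, hIB⟩ := Ideal.image_subset_nonunits_valuationSubring I hI
  have hkB : ∀ c, algebraMap k K c ∈ B := fun c => hSB ⟨C c, by simp⟩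
  have hBV : (B : Set K) ⊆ V := fun w hw => by
    by_contra hwV
    have hlt : v w⁻¹ < 1 := by
      rw [map_inv₀]; exact inv_lt_one_of_one_lt₀ (not_le.1 fun h => hwV ((V.valuation_le_one_iff w).1 h))
    have hmem : w⁻¹ ∈ S := ⟨0, by simpa using hlt⟩
    have hn : w⁻¹ ∈ B.nonunits := hIB ⟨⟨w⁻¹, hmem⟩, ⟨0, by simp, by simpa using hlt⟩, rfl⟩
    rw [ValuationSubring.mem_nonunits_iff, map_inv₀] at hn
    have h1 := (B.valuation_le_one_iff w).2 hw
    have hw0 : w ≠ 0 := fun h => hwV (h ▸ zero_mem V)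
    exact absurd hn (not_lt.2 (one_le_inv₀ ((Valuation.pos_iff _).2 hw0) |>.2 h1))
  have hVB : (V : Set K) ⊆ B := hmin ⟨B, rfl, hkB⟩ hBV
  have hx0 : x ≠ 0 := fun h => by simpa [h] using hno 0
  have hinv : x⁻¹ ∈ V := by
    refine (V.valuation_le_one_iff _).1 (le_of_eq ?_)
    rw [map_inv₀, show V.valuation x = 1 by simpa using hunit X X_ne_zero, inv_one]
  have hnx : x ∈ B.nonunits := hIB ⟨⟨x, ⟨X, by simp⟩⟩, ⟨X, by simp, by simp⟩, rfl⟩
  rw [ValuationSubring.mem_nonunits_iff] at hnx
  have h1 := (B.valuation_le_one_iff _).2 (hVB hinv)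
  rw [map_inv₀] at h1
  exact absurd hnx (not_lt.2 ((inv_le_one₀ ((Valuation.pos_iff _).2 hx0)).1 h1))

variable {k K}
variable {Γ₀ : Type u} [LinearOrderedCommGroupWithZero Γ₀] (v : Valuation K Γ₀)
  {ι : Type} [LinearOrder ι] [Fintype ι]

/-- The first coordinate and its value; earlier is smaller. -/
def Lead (a : ι → K) (p : ι ×ₗ Γ₀ᵒᵈ) : Prop :=
  a (ofLex p).1 ≠ 0 ∧ v (a (ofLex p).1) = OrderDual.ofDual (ofLex p).2 ∧ ∀ j < (ofLex p).1, a j = 0

theorem exists_lead {a : ι → K} (ha : a ≠ 0) : ∃ p, Lead v a p := by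
  classical
  obtain ⟨j, hj⟩ := Function.ne_iff.1 ha
  let s := Finset.univ.filter fun i => a i ≠ 0
  have hs : s.Nonempty := ⟨j, by simpa [s] using hj⟩
  refine ⟨toLex (s.min' hs, OrderDual.toDual (v (a (s.min' hs)))), ?_, rfl, fun i hi => ?_⟩
  · simpa [s] using s.min'_mem hs
  · by_contra h0
    exact absurd (s.min'_le i (by simpa [s] using h0)) (not_le.2 hi)

/-- The leading values of a space. -/
def vals (A : Submodule k (ι → K)) : Set (ι ×ₗ Γ₀ᵒᵈ) := {p | ∃ a ∈ A, Lead v a p}

variable (hk : ∀ c : k, c ≠ 0 → v (algebraMap k K c) = 1)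

include hk in
theorem card_le_finrank (A : Submodule k (ι → K)) [FiniteDimensional k A] (T : Finset (ι ×ₗ Γ₀ᵒᵈ))
    (hT : (T : Set _) ⊆ vals v A) : T.card ≤ Module.finrank k A := by
  classical
  choose r hr hlead using fun p : T => hT p.2
  have hli : LinearIndependent k fun p : T => (⟨r p, hr p⟩ : A) := by
    rw [Fintype.linearIndependent_iff]
    intro g hg p
    by_contra hp
    let N := Finset.univ.filter fun p : T => g p ≠ 0
    have hN : N.Nonempty := ⟨p, by simpa [N] using hp⟩
    obtain ⟨q, hqN, hq⟩ := N.exists_min_image (fun p => (p : ι ×ₗ Γ₀ᵒᵈ)) hN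
    let i := (ofLex (q : ι ×ₗ Γ₀ᵒᵈ)).1
    have hsum : ∑ p, g p • r p i = 0 := by
      have := congrFun (congrArg (fun a : A => (a : ι → K)) hg) i
      simpa using this
    have hgq : g q ≠ 0 := by simpa [N] using hqN
    have hlt : v (∑ p ∈ Finset.univ.erase q, g p • r p i) < v (g q • r q i) := by
      have hqv : v (g q • r q i) = OrderDual.ofDual (ofLex (q : ι ×ₗ Γ₀ᵒᵈ)).2 := by
        rw [Algebra.smul_def, map_mul, hk _ hgq, one_mul, (hlead q).2.1]
      refine v.map_sum_lt (by rw [hqv, ← (hlead q).2.1, Ne, Valuation.zero_iff]; exact (hlead q).1) fun p' hp' => ?_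
      rw [Algebra.smul_def, map_mul]
      by_cases hg0 : g p' = 0
      · rw [hg0, map_zero, map_zero, zero_mul, hqv, ← (hlead q).2.1]
        exact (Valuation.pos_iff _).2 (hlead q).1
      · have hne : (q : ι ×ₗ Γ₀ᵒᵈ) ≠ p' := fun e => (Finset.mem_erase.1 hp').1 (Subtype.ext e.symm)
        have hlt := lt_of_le_of_ne (hq p' (by simpa [N] using hg0)) hne
        rw [hk _ hg0, one_mul, hqv]
        rcases (Prod.Lex.lt_iff).1 hlt with h | ⟨h, h'⟩
        · rw [(hlead p').2.2 i h, map_zero, ← (hlead q).2.1]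
          exact (Valuation.pos_iff _).2 (hlead q).1
        · rw [show i = (ofLex (p' : ι ×ₗ Γ₀ᵒᵈ)).1 from h, (hlead p').2.1]
          exact h'
    rw [← Finset.add_sum_erase _ _ (Finset.mem_univ q)] at hsum
    have h2 := v.map_add_eq_of_lt_left hlt
    rw [hsum, map_zero] at h2
    exact absurd hlt (not_lt.2 (h2 ▸ zero_le))
  simpa using hli.fintype_card_le_finrank

variable (hres : ∀ x, v x ≤ 1 → ∃ c : k, v (x - algebraMap k K c) < 1)

include hk hres in
theorem exists_vals (A : Submodule k (ι → K)) [FiniteDimensional k A] :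
    ∃ T : Finset (ι ×ₗ Γ₀ᵒᵈ), (T : Set _) ⊆ vals v A ∧ Module.finrank k A ≤ T.card := by
  classical
  have hfin : (vals v A).Finite := by
    by_contra hinf
    obtain ⟨T, hT, hcard⟩ := Set.Infinite.exists_subset_card_eq hinf (Module.finrank k A + 1)
    have := card_le_finrank v hk A T hT
    omega
  let T := hfin.toFinset
  refine ⟨T, by simp [T], ?_⟩
  choose r hr hlead using fun p : T => show (p : ι ×ₗ Γ₀ᵒᵈ) ∈ vals v A from hfin.mem_toFinset.1 p.2
  let W := Submodule.span k (Set.range r)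
  have key : ∀ (n : ℕ), ∀ a ∈ A, ∀ p, Lead v a p → (T.filter fun q => p ≤ q).card ≤ n → a ∈ W := by
    intro n
    induction n with
    | zero =>
      intro a ha p hp hn
      have : p ∈ T.filter fun q => p ≤ q := Finset.mem_filter.2 ⟨hfin.mem_toFinset.2 ⟨a, ha, hp⟩, le_rfl⟩
      exact absurd (Finset.card_pos.2 ⟨p, this⟩) (by omega)
    | succ n ih =>
      intro a ha p hp hn
      have hpT : p ∈ T := hfin.mem_toFinset.2 ⟨a, ha, hp⟩
      let b := r ⟨p, hpT⟩
      have hb := hlead ⟨p, hpT⟩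
      let i := (ofLex p).1
      have hq : v (a i / b i) ≤ 1 := by
        rw [map_div₀, hp.2.1, show v (b i) = _ from hb.2.1, div_self]
        rw [← hp.2.1, Ne, Valuation.zero_iff]
        exact hp.1
      obtain ⟨c, hc⟩ := hres _ hq
      have hd : v (a i - c • b i) < v (a i) := by
        have hbi : b i ≠ 0 := hb.1
        rw [Algebra.smul_def, show a i - algebraMap k K c * b i = (a i / b i - algebraMap k K c) * b i by
          field_simp, map_mul, show v (b i) = v (a i) from hb.2.1.trans hp.2.1.symm]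
        exact mul_lt_of_lt_one_left ((Valuation.pos_iff _).2 hp.1) hc
      have hbW : c • b ∈ W := W.smul_mem c (Submodule.subset_span ⟨_, rfl⟩)
      by_cases h0 : a - c • b = 0
      · rw [sub_eq_zero.1 h0]; exact hbW
      · obtain ⟨q, hq'⟩ := exists_lead v h0
        have hlt : p < q := by
          rw [Prod.Lex.lt_iff]
          rcases lt_trichotomy (ofLex q).1 i with h | h | h
          · exact absurd (show (a - c • b) (ofLex q).1 = 0 by
              simp [hp.2.2 _ h, show b (ofLex q).1 = 0 from hb.2.2 _ h]) hq'.1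
          · refine Or.inr ⟨h.symm, ?_⟩
            show OrderDual.ofDual (ofLex q).2 < OrderDual.ofDual (ofLex p).2
            rw [← hq'.2.1, ← hp.2.1, h]
            exact hd
          · exact Or.inl h
        have hsub : a - c • b ∈ A := A.sub_mem ha (A.smul_mem c (hr _))
        have := ih _ hsub q hq' (Nat.lt_succ_iff.1 (lt_of_lt_of_le (Finset.card_lt_card
          (Finset.ssubset_iff_subset_ne.2 ⟨fun z hz => by
            rw [Finset.mem_filter] at hz ⊢
            exact ⟨hz.1, hlt.le.trans hz.2⟩, fun e => absurd (Finset.mem_filter.1 (e.symm ▸ Finset.mem_filter.2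
              ⟨hpT, le_rfl⟩ : p ∈ T.filter fun z => q ≤ z)).2 (not_le.2 hlt)⟩)) hn))
        have h2 := W.add_mem this hbW
        rwa [sub_add_cancel] at h2
  have hle : A ≤ W := fun a ha => by
    by_cases h0 : a = 0
    · exact h0 ▸ W.zero_mem
    · obtain ⟨p, hp⟩ := exists_lead v h0
      exact key _ a ha p hp le_rfl
  haveI : FiniteDimensional k W := FiniteDimensional.span_of_finite k (Set.finite_range _)
  exact (Submodule.finrank_mono hle).trans ((finrank_range_le_card r).trans (Fintype.card_coe T).le)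

include hk hres in
/-- Hopf's inequality. -/
theorem finrank_add_le {m n : ℕ} (A : Submodule k (Fin m → K)) (B : Submodule k (Fin n → K))
    [FiniteDimensional k A] [FiniteDimensional k B]
    (C : Submodule k (Fin m ×ₗ Fin n → K)) [FiniteDimensional k C]
    (h : ∀ a ∈ A, ∀ b ∈ B, (fun p => a (ofLex p).1 * b (ofLex p).2) ∈ C) (hA : A ≠ ⊥) (hB : B ≠ ⊥) :
    Module.finrank k A + Module.finrank k B ≤ Module.finrank k C + 1 := by
  classical
  obtain ⟨S, hS, hSc⟩ := exists_vals v hk hres A
  obtain ⟨T, hT, hTc⟩ := exists_vals v hk hres B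
  have hne : ∀ {l : ℕ} (M : Submodule k (Fin l → K)) [FiniteDimensional k M], M ≠ ⊥ →
      ∀ U : Finset (Fin l ×ₗ Γ₀ᵒᵈ), Module.finrank k M ≤ U.card → U.Nonempty := fun M _ hM U hU => by
    rw [← Finset.card_pos]
    refine lt_of_lt_of_le ?_ hU
    rw [Module.finrank_pos_iff_exists_ne_zero]
    obtain ⟨x, hx, hx0⟩ := M.ne_bot_iff.1 hM
    exact ⟨⟨x, hx⟩, fun e => hx0 (congrArg Subtype.val e)⟩
  have hSne := hne A hA S hSc
  have hTne := hne B hB T hTc
  let op : Fin m ×ₗ Γ₀ᵒᵈ → Fin n ×ₗ Γ₀ᵒᵈ → (Fin m ×ₗ Fin n) ×ₗ Γ₀ᵒᵈ := fun p q =>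
    toLex (toLex ((ofLex p).1, (ofLex q).1),
      OrderDual.toDual (OrderDual.ofDual (ofLex p).2 * OrderDual.ofDual (ofLex q).2))
  let s₁ := S.max' hSne
  let t₀ := T.min' hTne
  have hnz : ∀ {l : ℕ} {M : Submodule k (Fin l → K)} {p}, p ∈ vals v M → (0 : Γ₀) < OrderDual.ofDual (ofLex p).2 := by
    rintro l M p ⟨a, -, h1, h2, -⟩
    rw [← h2]
    exact (Valuation.pos_iff _).2 h1
  have mono₁ : ∀ {p p' q}, 0 < OrderDual.ofDual (ofLex q).2 → p < p' → op p q < op p' q := by
    intro p p' q hq h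
    rw [Prod.Lex.lt_iff]
    rcases Prod.Lex.lt_iff.1 h with h | ⟨h, h'⟩
    · exact Or.inl (Prod.Lex.lt_iff.2 (Or.inl h))
    · exact Or.inr ⟨by show toLex _ = toLex _; rw [h],
        OrderDual.toDual_lt_toDual.2
          (mul_lt_mul_of_pos_right (show OrderDual.ofDual (ofLex p').2 < OrderDual.ofDual (ofLex p).2 from h') hq)⟩
  have mono₂ : ∀ {p q q'}, 0 < OrderDual.ofDual (ofLex p).2 → q < q' → op p q < op p q' := by
    intro p q q' hp h
    rw [Prod.Lex.lt_iff]
    rcases Prod.Lex.lt_iff.1 h with h | ⟨h, h'⟩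
    · exact Or.inl (Prod.Lex.lt_iff.2 (Or.inr ⟨rfl, h⟩))
    · exact Or.inr ⟨by show toLex _ = toLex _; rw [h],
        OrderDual.toDual_lt_toDual.2
          (mul_lt_mul_of_pos_left (show OrderDual.ofDual (ofLex q').2 < OrderDual.ofDual (ofLex q).2 from h') hp)⟩
  let F := S.image fun p => op p t₀
  let G := T.image fun q => op s₁ q
  have ht₀ := hnz (hT (T.min'_mem hTne))
  have hs₁ := hnz (hS (S.max'_mem hSne))
  have hF : F.card = S.card := Finset.card_image_of_injOn (StrictMono.injective (f := fun p => op p t₀) (fun p p' h => mono₁ ht₀ h)).injOn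
  have hG : G.card = T.card := Finset.card_image_of_injOn (StrictMono.injective (f := fun q => op s₁ q) (fun q q' h => mono₂ hs₁ h)).injOn
  have hI : (F ∩ G).card ≤ 1 := by
    refine (Finset.card_le_card (t := {op s₁ t₀}) fun z hz => ?_).trans (Finset.card_singleton _).le
    rw [Finset.mem_inter, Finset.mem_image, Finset.mem_image] at hz
    obtain ⟨⟨p, hp, rfl⟩, q, hq, hqe⟩ := hz
    rw [Finset.mem_singleton]
    by_contra hne'
    have h1 : op p t₀ < op s₁ t₀ := mono₁ ht₀ (lt_of_le_of_ne (S.le_max' p hp) fun e => hne' (by rw [e]))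
    rcases eq_or_lt_of_le (T.min'_le q hq) with e | hlt
    · exact hne' (by rw [← hqe, ← e])
    · exact absurd (h1.trans (mono₂ hs₁ hlt)) (by rw [hqe]; exact lt_irrefl _)
  have hU : ((F ∪ G : Finset _) : Set _) ⊆ vals v C := by
    intro z hz
    obtain ⟨p, q, hp, hq, rfl⟩ : ∃ p q, p ∈ S ∧ q ∈ T ∧ op p q = z := by
      rw [Finset.mem_coe, Finset.mem_union, Finset.mem_image, Finset.mem_image] at hz
      rcases hz with ⟨p, hp, rfl⟩ | ⟨q, hq, rfl⟩
      · exact ⟨p, t₀, hp, T.min'_mem hTne, rfl⟩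
      · exact ⟨s₁, q, S.max'_mem hSne, hq, rfl⟩
    obtain ⟨a, ha, ha1, ha2, ha3⟩ := hS hp
    obtain ⟨b, hb, hb1, hb2, hb3⟩ := hT hq
    refine ⟨_, h a ha b hb, mul_ne_zero ha1 hb1, ?_, fun j hj => ?_⟩
    · exact (map_mul v _ _).trans (congrArg₂ (· * ·) ha2 hb2)
    · rcases Prod.Lex.lt_iff.1 hj with h' | ⟨h', h''⟩
      · show a _ * b _ = 0
        rw [ha3 _ h', zero_mul]
      · show a _ * b _ = 0
        rw [hb3 _ h'', mul_zero]
  have := card_le_finrank v hk C (F ∪ G) hU
  have := Finset.card_union_add_card_inter F G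
  omega

end Groth.Agent.HopfIneq
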